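import Groth.Agent.Ribbon24.Fibre
import Groth.Agent.DirImgAff.Basic

/-! # A split first order thickening is determined by its conormal module -/

set_option autoImplicit false
set_option linter.style.haveILetI false
set_option backward.isDefEq.respectTransparency false

universe u

open CategoryTheory AlgebraicGeometry TopologicalSpace Opposite OmegaSh
open Groth.Agent.Omega.Basic Groth.Agent.Omega.Stalks Groth.Agent.Ribbon24

noncomputable section

namespace Groth.Agent.RibbonUniq7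

theorem appLE_eq {X Y : Scheme.{u}} {f g : X ⟶ Y} (h : f = g) (U : Y.Opens) (V : X.Opens) (e : V ≤ f ⁻¹ᵁ U) :
    f.appLE U V e = g.appLE U V (h ▸ e) := by
  subst h; rfl

variable {C D : Scheme.{u}} (i : D ⟶ C) [IsClosedImmersion i] (hsq : i.ker ^ 2 = ⊥) (r : C ⟶ D) (hr : i ≫ r = 𝟙 D)

include hsq hr in
theorem le_r (V : C.Opens) : V ≤ r ⁻¹ᵁ (i ⁻¹ᵁ V) := fun p hp => by
  obtain ⟨d, rfl⟩ := surjective_of_sq i hsq p
  show i (r (i d)) ∈ V
  rw [← Scheme.Hom.comp_apply i r, hr]
  exact hp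

include hr in
theorem preimage_r (A : D.Opens) : i ⁻¹ᵁ (r ⁻¹ᵁ A) = A := by
  rw [← Scheme.Hom.comp_preimage, hr]; rfl

include hsq in
theorem conormalSect_bij (V : C.Opens) : Function.Bijective (conormalSect i V) := by
  haveI : IsIso ((Scheme.Modules.pullbackPushforwardAdjunction i).unit.app (ClSub.idealMod i.ker)) :=
    Groth.Agent.DirImgAff.isIso_of_affine _ fun W hW => conormalSect_bijective i hsq hW
  exact ConcreteCategory.bijective_of_isIso
    (((Scheme.Modules.pullbackPushforwardAdjunction i).unit.app (ClSub.idealMod i.ker)).app V)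

/-- The functions pulled back along the retraction. -/
def q (V : C.Opens) : Γ(D, i ⁻¹ᵁ V) →+* Γ(C, V) := (r.appLE _ V (le_r i hsq r hr V)).hom

theorem app_q (V : C.Opens) (a : Γ(D, i ⁻¹ᵁ V)) : i.app V (q i hsq r hr V a) = a := by
  have h := Scheme.Hom.appLE_comp_appLE i r (i ⁻¹ᵁ V) V (i ⁻¹ᵁ V) (le_r i hsq r hr V) le_rfl
  rw [appLE_eq hr] at h
  have h2 := congr($h a)
  rw [ConcreteCategory.comp_apply, Scheme.Hom.appLE_eq_app] at h2
  refine h2.trans ?_
  simp [Scheme.Hom.appLE]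
  exact congr($(D.presheaf.map_id _) a)

theorem q_res {V W : C.Opens} (e : W ≤ V) (a : Γ(D, i ⁻¹ᵁ V)) :
    q i hsq r hr W (D.presheaf.map (homOfLE (i.preimage_mono e)).op a) =
      C.presheaf.map (homOfLE e).op (q i hsq r hr V a) := by
  show (D.presheaf.map _ ≫ r.appLE _ W _) a = (r.appLE _ V _ ≫ C.presheaf.map _) a
  rw [Scheme.Hom.map_appLE, Scheme.Hom.appLE_map]

/-- The ideal part. -/
def E (V : C.Opens) (c : Γ(Omega.conormal i, i ⁻¹ᵁ V)) : Γ(C, V) :=
  idealSect i.ker V ((conormalSect_bij i hsq V).2 c).choose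

theorem E_conormalSect (V : C.Opens) (s : Γ(ClSub.idealMod i.ker, V)) :
    E i hsq V (conormalSect i V s) = idealSect i.ker V s :=
  congrArg (idealSect i.ker V) ((conormalSect_bij i hsq V).1 ((conormalSect_bij i hsq V).2 (conormalSect i V s)).choose_spec)

theorem app_E (V : C.Opens) (c : Γ(Omega.conormal i, i ⁻¹ᵁ V)) : i.app V (E i hsq V c) = 0 :=
  app_idealSect i V _

theorem E_add (V : C.Opens) (c c' : Γ(Omega.conormal i, i ⁻¹ᵁ V)) :
    E i hsq V (c + c') = E i hsq V c + E i hsq V c' := by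
  obtain ⟨s, rfl⟩ := (conormalSect_bij i hsq V).2 c
  obtain ⟨s', rfl⟩ := (conormalSect_bij i hsq V).2 c'
  rw [← map_add, E_conormalSect, E_conormalSect, E_conormalSect, map_add]

theorem E_zero (V : C.Opens) : E i hsq V 0 = 0 := by
  rw [← map_zero (ConcreteCategory.hom (conormalSect i V)), E_conormalSect, map_zero]

theorem E_smul (V : C.Opens) (a : Γ(D, i ⁻¹ᵁ V)) (c : Γ(Omega.conormal i, i ⁻¹ᵁ V)) :
    E i hsq V (a • c) = q i hsq r hr V a * E i hsq V c := by
  obtain ⟨s, rfl⟩ := (conormalSect_bij i hsq V).2 c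
  have h : a • conormalSect i V s = conormalSect i V (q i hsq r hr V a • s) := by
    conv_lhs => rw [← app_q i hsq r hr V a]
    exact (pullSect_smul i _ V _ s).symm
  rw [h, E_conormalSect, E_conormalSect, idealSect_smul]

theorem E_inj (V : C.Opens) : Function.Injective (E i hsq V) := fun c c' h => by
  obtain ⟨s, rfl⟩ := (conormalSect_bij i hsq V).2 c
  obtain ⟨s', rfl⟩ := (conormalSect_bij i hsq V).2 c'
  rw [E_conormalSect, E_conormalSect] at h
  rw [idealSect_injective _ _ h]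

theorem E_res {V W : C.Opens} (e : W ≤ V) (c : Γ(Omega.conormal i, i ⁻¹ᵁ V)) :
    E i hsq W ((Omega.conormal i).presheaf.map (homOfLE (i.preimage_mono e)).op c) =
      C.presheaf.map (homOfLE e).op (E i hsq V c) := by
  obtain ⟨s, rfl⟩ := (conormalSect_bij i hsq V).2 c
  have h : (Omega.conormal i).presheaf.map (homOfLE (i.preimage_mono e)).op (conormalSect i V s) =
      conormalSect i W ((ClSub.idealMod i.ker).presheaf.map (homOfLE e).op s) :=
    (pullSect_map i _ e s).symm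
  rw [h, E_conormalSect, E_conormalSect, idealSect_map]

include hsq in
theorem mul_eq_zero_of_ker (V : C.Opens) {x y : Γ(C, V)} (hx : i.app V x = 0) (hy : i.app V y = 0) : x * y = 0 := by
  refine TopCat.Sheaf.eq_of_locally_eq' C.sheaf (fun W : {W : C.Opens // IsAffineOpen W ∧ W ≤ V} => W.1) V
    (fun W => homOfLE W.2.2) (le_iSup_affines V) _ _ fun W => ?_
  change C.presheaf.map (homOfLE W.2.2).op (x * y) = C.presheaf.map (homOfLE W.2.2).op 0
  rw [map_mul, map_zero]
  exact mul_eq_zero_of_app i hsq W.2.1 (by rw [app_map, hx, map_zero]) (by rw [app_map, hy, map_zero])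

include hsq hr in
theorem exists_dec (V : C.Opens) (t : Γ(C, V)) : ∃ c, t = q i hsq r hr V (i.app V t) + E i hsq V c := by
  obtain ⟨s, hs⟩ := exists_idealSect_eq i V (t - q i hsq r hr V (i.app V t)) (by rw [map_sub, app_q, sub_self])
  exact ⟨conormalSect i V s, by rw [E_conormalSect, hs, add_sub_cancel]⟩

theorem app_dec (V : C.Opens) (a : Γ(D, i ⁻¹ᵁ V)) (c : Γ(Omega.conormal i, i ⁻¹ᵁ V)) :
    i.app V (q i hsq r hr V a + E i hsq V c) = a := by
  rw [map_add, app_q, app_E, add_zero]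

theorem dec_unique {V : C.Opens} {a a' : Γ(D, i ⁻¹ᵁ V)} {c c' : Γ(Omega.conormal i, i ⁻¹ᵁ V)}
    (h : q i hsq r hr V a + E i hsq V c = q i hsq r hr V a' + E i hsq V c') : a = a' ∧ c = c' := by
  have h1 := congrArg (i.app V) h
  rw [app_dec, app_dec] at h1
  subst h1
  exact ⟨rfl, E_inj i hsq V (add_left_cancel h)⟩

section Transfer

variable {C' : Scheme.{u}} (j : D ⟶ C') [IsClosedImmersion j] (hsq' : j.ker ^ 2 = ⊥) (r' : C' ⟶ D)
  (hr' : j ≫ r' = 𝟙 D) (θ : Omega.conormal j ⟶ Omega.conormal i)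

abbrev pre (U : C'.Opens) : C.Opens := r ⁻¹ᵁ (j ⁻¹ᵁ U)

/-- The transfer of functions. -/
def T (U : C'.Opens) (t : Γ(C', U)) : Γ(C, pre r j U) :=
  q i hsq r hr _ (D.presheaf.map (homOfLE (preimage_r i r hr (j ⁻¹ᵁ U)).le).op (j.app U t)) +
    E i hsq _ ((Omega.conormal i).presheaf.map (homOfLE (preimage_r i r hr (j ⁻¹ᵁ U)).le).op
      (θ.app _ (exists_dec j hsq' r' hr' U t).choose))

theorem T_eq (U : C'.Opens) (a : Γ(D, j ⁻¹ᵁ U)) (c : Γ(Omega.conormal j, j ⁻¹ᵁ U)) :
    T i hsq r hr j hsq' r' hr' θ U (q j hsq' r' hr' U a + E j hsq' U c) =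
      q i hsq r hr _ (D.presheaf.map (homOfLE (preimage_r i r hr (j ⁻¹ᵁ U)).le).op a) +
        E i hsq _ ((Omega.conormal i).presheaf.map (homOfLE (preimage_r i r hr (j ⁻¹ᵁ U)).le).op (θ.app _ c)) := by
  have h := (exists_dec j hsq' r' hr' U (q j hsq' r' hr' U a + E j hsq' U c)).choose_spec
  rw [T]
  generalize (exists_dec j hsq' r' hr' U (q j hsq' r' hr' U a + E j hsq' U c)).choose = c₀ at h ⊢
  rw [app_dec] at h ⊢
  rw [(dec_unique j hsq' r' hr' h).2]

theorem app_T (U : C'.Opens) (t : Γ(C', U)) : i.app _ (T i hsq r hr j hsq' r' hr' θ U t) =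
    D.presheaf.map (homOfLE (preimage_r i r hr (j ⁻¹ᵁ U)).le).op (j.app U t) :=
  app_dec i hsq r hr _ _ _

/-- The transfer as a ring map. -/
def Tr (U : C'.Opens) : Γ(C', U) →+* Γ(C, pre r j U) where
  toFun := T i hsq r hr j hsq' r' hr' θ U
  map_one' := by
    have h := T_eq i hsq r hr j hsq' r' hr' θ U 1 0
    simp only [E_zero, map_one, add_zero, map_zero] at h
    exact h
  map_zero' := by
    have h := T_eq i hsq r hr j hsq' r' hr' θ U 0 0
    simp only [E_zero, add_zero, map_zero] at h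
    exact h
  map_add' := fun x y => by
    obtain ⟨c, hc⟩ := exists_dec j hsq' r' hr' U x
    obtain ⟨c', hc'⟩ := exists_dec j hsq' r' hr' U y
    have key : ∀ a a' e e', q j hsq' r' hr' U a + E j hsq' U e + (q j hsq' r' hr' U a' + E j hsq' U e') =
        q j hsq' r' hr' U (a + a') + E j hsq' U (e + e') := fun a a' e e' => by rw [map_add, E_add]; abel
    rw [hc, hc', key]
    rw [T_eq, T_eq, T_eq]
    simp only [map_add, E_add]
    abel
  map_mul' := fun x y => by
    obtain ⟨c, hc⟩ := exists_dec j hsq' r' hr' U x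
    obtain ⟨c', hc'⟩ := exists_dec j hsq' r' hr' U y
    have key : ∀ {C₀ : Scheme.{u}} (i₀ : D ⟶ C₀) [IsClosedImmersion i₀] (h₀ : i₀.ker ^ 2 = ⊥) (r₀ : C₀ ⟶ D)
        (hr₀ : i₀ ≫ r₀ = 𝟙 D) (V : C₀.Opens) (a a' : Γ(D, i₀ ⁻¹ᵁ V)) (e e' : Γ(Omega.conormal i₀, i₀ ⁻¹ᵁ V)),
        (q i₀ h₀ r₀ hr₀ V a + E i₀ h₀ V e) * (q i₀ h₀ r₀ hr₀ V a' + E i₀ h₀ V e') =
          q i₀ h₀ r₀ hr₀ V (a * a') + E i₀ h₀ V (a • e' + a' • e) := by
      intro C₀ i₀ _ h₀ r₀ hr₀ V a a' e e'
      have h1 := mul_eq_zero_of_ker i₀ h₀ V (app_E i₀ h₀ V e) (app_E i₀ h₀ V e')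
      rw [map_mul, E_add, E_smul i₀ h₀ r₀ hr₀, E_smul i₀ h₀ r₀ hr₀]
      linear_combination h1
    rw [hc, hc', key, T_eq, T_eq, T_eq, key, map_mul, map_add, Scheme.Modules.Hom.app_smul, Scheme.Modules.Hom.app_smul,
      map_add, Scheme.Modules.map_smul, Scheme.Modules.map_smul]

include hsq hr hsq' hr' in
theorem exists_hom : ∃ g : C ⟶ C', i ≫ g = j ∧ g ≫ r' = r ∧ (IsIso θ → IsIso g) := by
  let g₀ : C.carrier ⟶ C'.carrier := (r ≫ j).base
  let cN : C'.presheaf ⟶ (TopCat.Presheaf.pushforward CommRingCat g₀).obj C.presheaf :=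
    { app := fun U => CommRingCat.ofHom (Tr i hsq r hr j hsq' r' hr' θ U.unop)
      naturality := fun U U' e => by
        refine CommRingCat.hom_ext (RingHom.ext fun t => ?_)
        have hle : U'.unop ≤ U.unop := leOfHom e.unop
        obtain ⟨c, hc⟩ := exists_dec j hsq' r' hr' U.unop t
        show T i hsq r hr j hsq' r' hr' θ U'.unop (C'.presheaf.map (homOfLE hle).op t) =
          C.presheaf.map (homOfLE (r.preimage_mono (j.preimage_mono hle))).op (T i hsq r hr j hsq' r' hr' θ U.unop t)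
        conv_lhs => rw [hc, map_add, ← q_res j hsq' r' hr' hle, ← E_res j hsq' hle]
        conv_rhs => rw [hc]
        rw [T_eq, T_eq, map_add, ← q_res i hsq r hr (r.preimage_mono (j.preimage_mono hle)),
          ← E_res i hsq (r.preimage_mono (j.preimage_mono hle))]
        congr 2
        · exact (Ribbon24.res_res _ _ (homOfLE ((preimage_r i r hr (j ⁻¹ᵁ U'.unop)).le.trans (j.preimage_mono hle))) _).trans
            (Ribbon24.res_res _ _ _ _).symm
        · refine (congrArg _ (congr($((Scheme.Modules.Hom.mapPresheaf θ).naturality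
            (homOfLE (j.preimage_mono hle)).op) c))).trans ?_
          exact (res_resP _ _ _ (homOfLE ((preimage_r i r hr (j ⁻¹ᵁ U'.unop)).le.trans (j.preimage_mono hle))) _).trans
            (res_resP _ _ _ _ _).symm }
  have hlocal : ∀ x, IsLocalHom (PresheafedSpace.Hom.stalkMap (X := C.toPresheafedSpace)
      (Y := C'.toPresheafedSpace) ⟨g₀, cN⟩ x).hom := by
    intro p
    refine ⟨fun a ha => ?_⟩
    obtain ⟨U, hU, t, rfl⟩ := C'.presheaf.exists_germ_eq a
    rw [PresheafedSpace.stalkMap_germ_apply] at ha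
    have h1 : p ∈ C.basicOpen (T i hsq r hr j hsq' r' hr' θ U t) := (C.mem_basicOpen _ p hU).2 ha
    obtain ⟨d, rfl⟩ := surjective_of_sq i hsq p
    have h2 : d ∈ i ⁻¹ᵁ C.basicOpen (T i hsq r hr j hsq' r' hr' θ U t) := h1
    rw [Scheme.preimage_basicOpen, app_T, Scheme.basicOpen_res] at h2
    have h3 : d ∈ j ⁻¹ᵁ C'.basicOpen t := by
      rw [Scheme.preimage_basicOpen]; exact h2.2
    refine (C'.mem_basicOpen t _ hU).1 ?_
    show j (r (i d)) ∈ C'.basicOpen t
    rw [← Scheme.Hom.comp_apply i r, hr]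
    exact h3
  let g : C ⟶ C' := ⟨⟨⟨g₀, cN⟩, hlocal⟩⟩
  refine ⟨g, ?_, ?_, fun hθ => ?_⟩
  · refine Scheme.Hom.ext ?_ fun U => ?_
    · refine TopCat.hom_ext (ContinuousMap.ext fun d => ?_)
      show j (r (i d)) = j d
      rw [← Scheme.Hom.comp_apply i r, hr]; rfl
    · refine CommRingCat.hom_ext (RingHom.ext fun t => ?_)
      refine (congrArg (D.presheaf.map _) (app_T i hsq r hr j hsq' r' hr' θ U t)).trans ?_
      exact (Ribbon24.res_res _ _ (𝟙 _) _).trans (Ribbon24.res_self _ _)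
  · refine Scheme.Hom.ext ?_ fun A => ?_
    · refine TopCat.hom_ext (ContinuousMap.ext fun p => ?_)
      show r' (j (r p)) = r p
      rw [← Scheme.Hom.comp_apply j r', hr']; rfl
    · refine CommRingCat.hom_ext (RingHom.ext fun a => ?_)
      have hA : j ⁻¹ᵁ (r' ⁻¹ᵁ A) = A := preimage_r j r' hr' A
      have hq : r'.app A a = q j hsq' r' hr' (r' ⁻¹ᵁ A) (D.presheaf.map (homOfLE hA.le).op a) := by
        show _ = (D.presheaf.map _ ≫ r'.appLE _ _ _) a
        rw [Scheme.Hom.map_appLE, Scheme.Hom.appLE_eq_app]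
      show C.presheaf.map _ (T i hsq r hr j hsq' r' hr' θ (r' ⁻¹ᵁ A) (r'.app A a)) = r.app A a
      have h := T_eq i hsq r hr j hsq' r' hr' θ (r' ⁻¹ᵁ A) (D.presheaf.map (homOfLE hA.le).op a) 0
      rw [E_zero, add_zero, ← hq, map_zero, map_zero, E_zero, add_zero] at h
      rw [h]
      show (D.presheaf.map _ ≫ D.presheaf.map _ ≫ r.appLE _ _ _ ≫ C.presheaf.map _) a = _
      rw [Scheme.Hom.appLE_map, Scheme.Hom.map_appLE, Scheme.Hom.map_appLE, Scheme.Hom.appLE_eq_app]
  · have hbase : IsHomeomorph (r ≫ j : C ⟶ C') := by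
      have h1 : IsHomeomorph (r : C ⟶ D) := by
        have hi := isHomeomorph_of_sq i hsq
        have he : ⇑r = hi.homeomorph.symm := funext fun p => by
          obtain ⟨d, rfl⟩ := surjective_of_sq i hsq p
          show r (i d) = _
          rw [← Scheme.Hom.comp_apply i r, hr]
          exact (hi.homeomorph.symm_apply_apply d).symm
        rw [he]; exact hi.homeomorph.symm.isHomeomorph
      rw [Scheme.Hom.comp_base]
      exact (isHomeomorph_of_sq j hsq').comp h1
    haveI : IsIso g₀ := TopCat.isIso_of_bijective_of_isOpenMap _ hbase.bijective hbase.isOpenMap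
    have hρ : ∀ U : C'.Opens, Function.Bijective ((Omega.conormal i).presheaf.map (homOfLE (preimage_r i r hr (j ⁻¹ᵁ U)).le).op) := fun U => by
      rw [Subsingleton.elim (homOfLE (preimage_r i r hr (j ⁻¹ᵁ U)).le) (eqToHom (preimage_r i r hr (j ⁻¹ᵁ U)))]
      exact ConcreteCategory.bijective_of_isIso _
    have hbij : ∀ U, Function.Bijective (Tr i hsq r hr j hsq' r' hr' θ U) := fun U => by
      have hD : Function.Bijective (D.presheaf.map (homOfLE (preimage_r i r hr (j ⁻¹ᵁ U)).le).op) := by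
        rw [Subsingleton.elim (homOfLE (preimage_r i r hr (j ⁻¹ᵁ U)).le) (eqToHom (preimage_r i r hr (j ⁻¹ᵁ U)))]
        exact ConcreteCategory.bijective_of_isIso _
      have hθb : Function.Bijective (θ.app (j ⁻¹ᵁ U)) := ConcreteCategory.bijective_of_isIso _
      refine ⟨fun x y h => ?_, fun z => ?_⟩
      · obtain ⟨c, hc⟩ := exists_dec j hsq' r' hr' U x
        obtain ⟨c', hc'⟩ := exists_dec j hsq' r' hr' U y
        change T i hsq r hr j hsq' r' hr' θ U x = T i hsq r hr j hsq' r' hr' θ U y at h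
        rw [hc, hc', T_eq, T_eq] at h
        obtain ⟨ha, hb⟩ := dec_unique i hsq r hr h
        rw [hc, hc', hD.1 ha, hθb.1 ((hρ U).1 hb)]
      · obtain ⟨e, he⟩ := exists_dec i hsq r hr _ z
        obtain ⟨a, ha⟩ := hD.2 (i.app _ z)
        obtain ⟨c₁, hc₁⟩ := (hρ U).2 e
        obtain ⟨c, rfl⟩ := hθb.2 c₁
        refine ⟨q j hsq' r' hr' U a + E j hsq' U c, (T_eq i hsq r hr j hsq' r' hr' θ U a c).trans ?_⟩
        rw [ha, hc₁]; exact he.symm
    haveI : ∀ U, IsIso (cN.app U) := fun U => (ConcreteCategory.isIso_iff_bijective _).2 (hbij U.unop)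
    haveI : IsIso cN := NatIso.isIso_of_isIso_app _
    let P : C.toPresheafedSpace ⟶ C'.toPresheafedSpace := ⟨g₀, cN⟩
    haveI : IsIso P.base := inferInstanceAs (IsIso g₀)
    haveI : IsIso P.c := inferInstanceAs (IsIso cN)
    haveI : IsIso P := PresheafedSpace.isIso_of_components P
    haveI : IsIso (SheafedSpace.forgetToPresheafedSpace.map (LocallyRingedSpace.forgetToSheafedSpace.map g.toLRSHom)) :=
      inferInstanceAs (IsIso P)
    haveI := isIso_of_reflects_iso (LocallyRingedSpace.forgetToSheafedSpace.map g.toLRSHom) SheafedSpace.forgetToPresheafedSpace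
    haveI := isIso_of_reflects_iso g.toLRSHom LocallyRingedSpace.forgetToSheafedSpace
    haveI : IsIso (Scheme.forgetToLocallyRingedSpace.map g) := inferInstanceAs (IsIso g.toLRSHom)
    exact isIso_of_reflects_iso g Scheme.forgetToLocallyRingedSpace

end Transfer

end Groth.Agent.RibbonUniq7
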